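import Groth.Agent.Lib.QCoh.Closure
import Groth.Agent.Lib.Modules.ToSheaf
import Mathlib.Algebra.Category.Grp.Abelian
import Mathlib.Algebra.Category.Grp.EpiMono
import Mathlib.CategoryTheory.ConcreteCategory.EpiMono
import Mathlib.Algebra.Category.ModuleCat.Sheaf.Generators
import Mathlib.Algebra.Category.ModuleCat.Sheaf.Colimits
import Mathlib.Algebra.Category.ModuleCat.Sheaf.Abelian
import Mathlib.CategoryTheory.Sites.EpiMono
import Mathlib.CategoryTheory.Preadditive.Biproducts
import Mathlib.Topology.Sheaves.Sheaf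
import Mathlib.AlgebraicGeometry.Modules.Sheaf
import Mathlib.RingTheory.Finiteness.Basic
import Groth.Prelude.Def_SiteColimFix

/-!
# Finite type for sheaves of modules over a sheaf of rings on a space, by local spanning
-/

set_option autoImplicit false

universe u

open CategoryTheory Limits Opposite TopologicalSpace

noncomputable section

namespace Groth.Agent.Lib.FTLocal.Basic

variable {T : TopCat.{u}} {R : Sheaf (Opens.grothendieckTopology T) RingCat.{u}}
  (M : SheafOfModules.{u} R)

/-- The restriction of sections. -/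
abbrev res {V W : Opens T} (h : V ≤ W) (a : M.val.obj (op W)) : M.val.obj (op V) :=
  M.val.map (homOfLE h).op a

/-- Finitely many sections span all sections locally. -/
def LocSpanned : Prop :=
  ∀ x : T, ∃ (U : Opens T) (_ : x ∈ U) (n : ℕ) (t : Fin n → M.val.obj (op U)),
    ∀ (W : Opens T) (hW : W ≤ U) (a : M.val.obj (op W)) (y : T), y ∈ W →
      ∃ (W' : Opens T) (h : W' ≤ W), y ∈ W' ∧
        res M h a ∈ Submodule.span (R.obj.obj (op W')) (Set.range fun i => res M (h.trans hW) (t i))

variable {M}

/-- A section over `U` as a section of the restriction to `U`. -/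
def overSection {U : Opens T} (t : M.val.obj (op U)) : (M.over U).sections :=
  PresheafOfModules.sectionsMk (fun W => M.val.map W.unop.hom.op t) fun W W' f => by
    change M.val.map f.unop.left.op (M.val.map W.unop.hom.op t) = M.val.map W'.unop.hom.op t
    rw [← PresheafOfModules.map_comp_apply, ← op_comp, Over.w f.unop]

/-- A morphism out of a free module on finitely many generators takes values in the span. -/
theorem app_mem_span {C : Type u} [Category.{u} C] {J : GrothendieckTopology C} {S : Sheaf J RingCat.{u}}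
    [HasSheafify J AddCommGrpCat.{u}] [J.WEqualsLocallyBijective AddCommGrpCat.{u}]
    {N : SheafOfModules.{u} S} {I : Type u} [Finite I] (φ : SheafOfModules.free (R := S) I ⟶ N)
    (W : Cᵒᵖ) (s : (SheafOfModules.free (R := S) I).val.obj W) :
    φ.val.app W s ∈ Submodule.span (S.obj.obj W)
      (Set.range fun i : I => (show N.val.obj W from (SheafOfModules.freeHomEquiv N φ i).val W)) := by
  classical
  have := Fintype.ofFinite I
  let b : Bicone (fun _ : I => SheafOfModules.unit S) :=
    Bicone.ofColimitCocone (SheafOfModules.isColimitFreeCofan I)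
  have hb : ∑ i, b.π i ≫ b.ι i = 𝟙 b.pt :=
    IsBilimit.total ((biconeIsBilimitOfColimitCoconeOfIsColimit (SheafOfModules.isColimitFreeCofan I)))
  let ev : (b.pt ⟶ b.pt) →+ b.pt.val.obj W :=
    { toFun := fun ψ => ψ.val.app W s
      map_zero' := rfl
      map_add' := fun _ _ => rfl }
  have hs : ∑ i, ev (b.π i ≫ b.ι i) = s := by
    rw [← map_sum, hb]
    rfl
  rw [← hs]
  erw [map_sum]
  refine Submodule.sum_mem _ fun i _ => ?_
  have h : φ.val.app W (ev (b.π i ≫ b.ι i)) =
      (show S.obj.obj W from (b.π i).val.app W s) •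
        (show N.val.obj W from (SheafOfModules.freeHomEquiv N φ i).val W) := by
    change (SheafOfModules.ιFree i ≫ φ).val.app W ((b.π i).val.app W s) =
      _ • (SheafOfModules.ιFree i ≫ φ).val.app W (1 : S.obj.obj W)
    exact Eq.trans (congrArg _ (mul_one (show S.obj.obj W from (b.π i).val.app W s)).symm) (((SheafOfModules.ιFree i ≫ φ).val.app W).hom.map_smul _ _)
  rw [h]
  exact Submodule.smul_mem _ _ (Submodule.subset_span ⟨i, rfl⟩)

/-- An epimorphism is locally surjective on sections. -/
theorem exists_lift_sieve {C : Type u} [Category.{u} C] {J : GrothendieckTopology C} {S : Sheaf J RingCat.{u}}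
    [HasSheafify J AddCommGrpCat.{u}] [J.WEqualsLocallyBijective AddCommGrpCat.{u}]
    {N N' : SheafOfModules.{u} S} (φ : N ⟶ N') [Epi φ] {W : C} (a : N'.val.obj (op W)) :
    ∃ Sv : Sieve W, Sv ∈ J W ∧ ∀ (V : C) (f : V ⟶ W), Sv f →
      ∃ s : N.val.obj (op V), φ.val.app (op V) s = N'.val.map f.op a := by
  have : Presheaf.IsLocallySurjective J ((SheafOfModules.toSheaf S).map φ).hom :=
    (Sheaf.isLocallySurjective_iff_epi' _ _).2 inferInstance
  exact ⟨Presheaf.imageSieve ((SheafOfModules.toSheaf S).map φ).hom (U := W) a,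
    Presheaf.imageSieve_mem J _ _, fun V f hf => hf⟩

theorem locSpanned_of_isFiniteType [SheafOfModules.IsFiniteType.{u} (R := R) M] : LocSpanned M := by
  intro x
  obtain ⟨σ, hσ⟩ := SheafOfModules.IsFiniteType.exists_localGeneratorsData M
  obtain ⟨i, hi⟩ : ∃ i, x ∈ σ.X i :=
    Opens.mem_iSup.1 ((((Opens.coversTop_iff _ _).1 σ.coversTop).ge) (Set.mem_univ x))
  have := hσ.isFiniteType i
  let G := σ.generators i
  have : Finite G.I := inferInstance
  obtain ⟨n, ⟨en⟩⟩ := Finite.exists_equiv_fin G.I
  refine ⟨σ.X i, hi, n, fun k => (G.s (en.symm k)).val (op (Over.mk (𝟙 (σ.X i)))), ?_⟩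
  intro W hW a y hy
  refine Exists.elim (exists_lift_sieve G.π (W := Over.mk (homOfLE hW)) a) fun Sv h0 => ?_
  have hSv := h0.1
  have hlift := h0.2
  rw [GrothendieckTopology.mem_over_iff] at hSv
  refine Exists.elim ((Opens.mem_grothendieckTopology T).1 hSv y hy) fun W' h1 => Exists.elim h1 fun g h2 => ?_
  have hyW' : y ∈ W' := h2.2
  refine Exists.elim (hlift _ _ ((Sieve.overEquiv_iff _ _).1 h2.1)) fun s hs => ?_
  refine ⟨W', g.le, hyW', ?_⟩
  have key := app_mem_span G.π (op (Over.mk (g ≫ homOfLE hW))) s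
  have key2 := Eq.mp (congrArg (fun z => z ∈ _) hs) key
  refine (Submodule.span_le.2 ?_ : _ ≤ Submodule.span (R.obj.obj (op W'))
    (Set.range fun k => res M (g.le.trans hW) ((G.s (en.symm k)).val (op (Over.mk (𝟙 (σ.X i))))))) key2
  rintro _ ⟨k, rfl⟩
  refine Submodule.subset_span ⟨en k, ?_⟩
  refine Eq.trans ?_ (congrArg (fun z => (z k).val (op (Over.mk (g ≫ homOfLE hW))))
    (Equiv.apply_symm_apply (SheafOfModules.freeHomEquiv _) G.s).symm)
  simp only [Equiv.symm_apply_apply]
  exact PresheafOfModules.sections_property (G.s k)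
    (Over.homMk (g ≫ homOfLE hW) : Over.mk (g ≫ homOfLE hW) ⟶ Over.mk (𝟙 (σ.X i))).op

theorem isFiniteType_of_locSpanned (h : LocSpanned M) : SheafOfModules.IsFiniteType.{u} (R := R) M := by
  choose U hU n t ht using h
  have hgen : ∀ x : T, ∃ σ : (M.over (U x)).GeneratingSections, σ.IsFiniteType := by
    intro x
    let s : ULift.{u} (Fin (n x)) → (M.over (U x)).sections := fun i => overSection (t x i.down)
    let π := (M.over (U x)).freeHomEquiv.symm s
    have : Epi π := ?_
    · let σ : (M.over (U x)).GeneratingSections := { I := ULift.{u} (Fin (n x)), s := s, epi := this }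
      exact ⟨σ, ⟨(inferInstance : Finite (ULift.{u} (Fin (n x))))⟩⟩
    suffices he : Epi ((SheafOfModules.toSheaf _).map π) from
      (SheafOfModules.toSheaf _).epi_of_epi_map he
    refine (Sheaf.isLocallySurjective_iff_epi' _ _).1 ⟨fun {W} a => ?_⟩
    rw [GrothendieckTopology.mem_over_iff]
    intro y hy
    obtain ⟨W', h', hy', hmem⟩ := ht x W.left W.hom.le a y hy
    refine ⟨W', homOfLE h', (Sieve.overEquiv_iff _ _).2 ?_, hy'⟩
    let O : Over (U x) := Over.mk (homOfLE h' ≫ W.hom)
    have hr : Submodule.span (R.obj.obj (op W')) (Set.range fun i => res M (h'.trans W.hom.le) (t x i)) ≤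
        LinearMap.range (π.val.app (op O)).hom := by
      refine Submodule.span_le.2 ?_
      rintro _ ⟨i, rfl⟩
      refine ⟨(SheafOfModules.ιFree (ULift.up i)).val.app (op O) (1 : R.obj.obj (op W')), ?_⟩
      have e : (M.over (U x)).unitHomEquiv (SheafOfModules.ιFree (ULift.up i) ≫ π) = s (ULift.up i) :=
        congrFun ((M.over (U x)).freeHomEquiv.apply_symm_apply s) (ULift.up i)
      exact congrArg (fun z : (M.over (U x)).sections => z.val (op O)) e
    obtain ⟨z, hz⟩ := hr hmem
    exact ⟨z, hz⟩
  choose σ hσ using hgen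
  exact SheafOfModules.IsFiniteType.mk (M := M)
    ⟨{ I := T
       X := U
       coversTop := (Opens.coversTop_iff _ _).mpr
         (eq_top_iff.mpr fun x _ ↦ Opens.mem_iSup.mpr ⟨x, hU x⟩)
       generators := σ }, by constructor; exact hσ⟩

end Groth.Agent.Lib.FTLocal.Basic
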