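import Groth.Agent.Lib.FTLocal.Basic
import Groth.Agent.Lib.CohBasics.Affine
import Groth.Prelude.Def_RelSpec2
import Mathlib.AlgebraicGeometry.Morphisms.Affine
import Groth.Agent.Lib.QCoh.Stalk

/-!
# Finite type of a module and of its direct image over the direct image algebra
-/

set_option autoImplicit false

universe u

open CategoryTheory Limits AlgebraicGeometry Opposite TopologicalSpace

noncomputable section

namespace Groth.Agent.Lib.FTLocal.DirImg

open Groth.Agent.Lib Groth.Agent.Lib.CohBasics.Affine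

variable {X S : Scheme.{u}} (f : X ⟶ S) [IsAffineHom f] (F : X.Modules) [F.IsQuasicoherent]

theorem isFiniteType_iff :
    SheafOfModules.IsFiniteType.{u} (R := X.ringCatSheaf) F ↔
      SheafOfModules.IsFiniteType.{u} (R := AMod.ringSheaf (RelSpec.QCAlg.directImage f))
        ((AMod.dirImg f).obj F) := by
  constructor
  · intro hF
    refine Basic.isFiniteType_of_locSpanned fun s => ?_
    obtain ⟨U, hU, hs, -⟩ := exists_isAffineOpen_mem_and_subset (X := S) (x := s) (U := ⊤) trivial
    have := finite_sections (M := F) (hU.preimage f)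
    obtain ⟨n, t, ht⟩ := Module.Finite.exists_fin (R := Γ(X, f ⁻¹ᵁ U)) (M := Γ(F, f ⁻¹ᵁ U))
    refine ⟨U, hs, n, t, fun W hW a y hy => ?_⟩
    obtain ⟨r, hrW, hyr⟩ := hU.exists_basicOpen_le ⟨y, hy⟩ (hW hy)
    refine ⟨S.basicOpen r, hrW, hyr, ?_⟩
    have htop : Submodule.span Γ(X, f ⁻¹ᵁ S.basicOpen r)
        (Set.range fun i => F.presheaf.map (homOfLE (f.preimage_mono (hrW.trans hW))).op (t i)) = ⊤ := by
      refine span_eq_top_of_germ ((hU.basicOpen r).preimage f) _ fun x hx => ?_
      rw [eq_top_iff, ← germ_span_eq_top (hU.preimage f) _ ht (x := x) (f.preimage_mono (hrW.trans hW) hx)]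
      refine Submodule.span_mono ?_
      rintro _ ⟨_, ⟨i, rfl⟩, rfl⟩
      exact ⟨_, ⟨i, rfl⟩, TopCat.Presheaf.germ_res_apply _ _ _ _ _⟩
    exact htop.ge (show (show Γ(F, f ⁻¹ᵁ S.basicOpen r) from
      F.presheaf.map (homOfLE (f.preimage_mono hrW)).op a) ∈ _ from trivial)
  · intro hF
    refine isFiniteType_of_finite_sections fun x => ?_
    obtain ⟨U, hxU, n, t, ht⟩ := Basic.locSpanned_of_isFiniteType (M := (AMod.dirImg f).obj F) (f x)
    obtain ⟨V, hV, hxV, hVU⟩ := exists_isAffineOpen_mem_and_subset (X := S) (x := f x) (U := U) hxU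
    refine ⟨f ⁻¹ᵁ V, hV.preimage f, hxV, ⟨⟨?_, ?_⟩⟩⟩
    · classical
      exact Finset.univ.image fun i : Fin n =>
        (F.presheaf.map (homOfLE (f.preimage_mono hVU)).op (t i) : Γ(F, f ⁻¹ᵁ V))
    · classical
      refine span_eq_top_of_germ (hV.preimage f) _ fun y hy => eq_top_iff.2 fun v _ => ?_
      obtain ⟨r, b, hr, hb⟩ := QCoh.Stalk.exists_smul_eq_germ F (hV.preimage f) hy v
      refine (Submodule.smul_mem_iff_of_isUnit _ ((X.mem_basicOpen r y hy).1 hr)).1 ?_
      rw [hb]
      obtain ⟨W', hW'V, hyW', hmem⟩ := ht V hVU b (f y) hy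
      have key : ∀ c ∈ Submodule.span Γ(X, f ⁻¹ᵁ W') (Set.range fun i => (show Γ(F, f ⁻¹ᵁ W') from
          F.presheaf.map (homOfLE (f.preimage_mono (hW'V.trans hVU))).op (t i))),
          F.presheaf.germ (f ⁻¹ᵁ W') y hyW' c ∈ Submodule.span (X.presheaf.stalk y)
            (F.presheaf.germ (f ⁻¹ᵁ V) y hy '' ↑(Finset.univ.image fun i : Fin n =>
              (F.presheaf.map (homOfLE (f.preimage_mono hVU)).op (t i) : Γ(F, f ⁻¹ᵁ V)))) := by
        intro c hc
        induction hc using Submodule.span_induction with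
        | mem c hc =>
          obtain ⟨i, rfl⟩ := hc
          refine Submodule.subset_span ⟨_, Finset.mem_image.2 ⟨i, Finset.mem_univ _, rfl⟩, ?_⟩
          exact (TopCat.Presheaf.germ_res_apply F.presheaf _ y hy _).trans
            (TopCat.Presheaf.germ_res_apply F.presheaf _ y hyW' _).symm
        | zero => rw [map_zero]; exact Submodule.zero_mem _
        | add _ _ _ _ h₁ h₂ => rw [map_add]; exact Submodule.add_mem _ h₁ h₂
        | smul r t _ h => rw [Modules.StalkModule.germ_smul]; exact Submodule.smul_mem _ _ h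
      have h := key (F.presheaf.map (homOfLE (f.preimage_mono hW'V)).op b) hmem
      rw [TopCat.Presheaf.germ_res_apply] at h
      exact h

end Groth.Agent.Lib.FTLocal.DirImg
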